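import Cfsg.Agent.H912.LSUse
import Cfsg.Agent.H912.Bd4
import Cfsg.Agent.H264.CoverOver
import Cfsg.Prelude.Def_GeometricClasses

/-!
# S3499: from `GL (ι, F)` to `GL (Fin n, F)`; `PR` for residual cores (helper414)

* `exists_fin` : `P ≤ GL(ι, F)` perfect, `n = |ι|`: there is `P' ≤ GL (Fin n) F` perfect with the same socle
  `P' / scalars ≅ P / scalars` (and without scalars if `P` has none);
* `pr_of_noR` : `PR F |ι| r T` when the kernels of all perfect central extensions of `T` have order prime to `r`;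
* `pr_of_linear` : `PR F |ι| r T` for every `r` when `P` has no scalars `≠ 1` (e.g. `F = F_2`).
-/

set_option autoImplicit false

universe u v

namespace Cfsg.Agent.H414.EPV

open Subgroup Cfsg.Agent.H912.Bd
open scoped MatrixGroups

/-- `GL (ι, F) ≃* GL (Fin |ι|, F)` -/
noncomputable def reE (ι : Type) [Fintype ι] [DecidableEq ι] (F : Type u) [Field F] :
    Matrix.GeneralLinearGroup ι F ≃* Matrix.GeneralLinearGroup (Fin (Fintype.card ι)) F :=
  Units.mapEquiv ((Matrix.reindexAlgEquiv F F (Fintype.equivFin ι) : Matrix ι ι F ≃ₐ[F] _) : Matrix ι ι F ≃* _)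

variable {ι : Type} [Fintype ι] [DecidableEq ι] {F : Type u} [Field F]

theorem reE_scalars (x : Matrix.GeneralLinearGroup ι F) :
    reE ι F x ∈ Cfsg.Geo.scalars (Fin (Fintype.card ι)) F ↔ x ∈ Cfsg.Geo.scalars ι F := by
  rw [Cfsg.Geo.mem_scalars_iff, Cfsg.Geo.mem_scalars_iff]
  have h : ((reE ι F x : Matrix.GeneralLinearGroup (Fin (Fintype.card ι)) F) :
      Matrix (Fin (Fintype.card ι)) (Fin (Fintype.card ι)) F) =
      Matrix.reindexAlgEquiv F F (Fintype.equivFin ι) (x : Matrix ι ι F) := rfl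
  constructor
  · rintro ⟨c, hc⟩
    refine ⟨c, ?_⟩
    apply (Matrix.reindexAlgEquiv F F (Fintype.equivFin ι)).injective
    rw [← h, hc, map_smul, map_one]
  · rintro ⟨c, hc⟩
    refine ⟨c, ?_⟩
    rw [h, hc, map_smul, map_one]

/-- the transport to `Fin n` -/
theorem exists_fin (P : Subgroup (Matrix.GeneralLinearGroup ι F)) (hP : ⁅P, P⁆ = P) :
    ∃ P' : Subgroup (Matrix.GeneralLinearGroup (Fin (Fintype.card ι)) F), ⁅P', P'⁆ = P' ∧
      Nonempty ((P' ⧸ (Cfsg.Geo.scalars (Fin (Fintype.card ι)) F).subgroupOf P') ≃*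
        (P ⧸ (Cfsg.Geo.scalars ι F).subgroupOf P)) ∧
      ((∀ x ∈ P, x ∈ Cfsg.Geo.scalars ι F → x = 1) →
        ∀ x ∈ P', x ∈ Cfsg.Geo.scalars (Fin (Fintype.card ι)) F → x = 1) := by
  refine ⟨P.map (reE ι F).toMonoidHom, ?_, ?_, ?_⟩
  · rw [← Subgroup.map_commutator, hP]
  · refine ⟨(QuotientGroup.congr _ _ (P.equivMapOfInjective (reE ι F).toMonoidHom (reE ι F).injective) ?_).symm⟩
    ext x
    rw [Subgroup.mem_map]
    constructor
    · rintro ⟨y, hy, rfl⟩
      rw [Subgroup.mem_subgroupOf] at hy ⊢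
      exact (reE_scalars _).2 hy
    · intro hx
      rw [Subgroup.mem_subgroupOf] at hx
      obtain ⟨y, hy⟩ := (P.equivMapOfInjective (reE ι F).toMonoidHom (reE ι F).injective).surjective x
      refine ⟨y, ?_, hy⟩
      rw [Subgroup.mem_subgroupOf]
      rw [← hy] at hx
      exact (reE_scalars _).1 hx
  · rintro h _ ⟨y, hy, rfl⟩ hs
    rw [h y hy ((reE_scalars _).1 hs), map_one]

/-- `PR` for perfect groups without scalars -/
theorem pr_of_linear {T : Type v} [Group T] (r : ℕ) (P : Subgroup (Matrix.GeneralLinearGroup ι F)) (hP : ⁅P, P⁆ = P)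
    (hsc : ∀ x ∈ P, x ∈ Cfsg.Geo.scalars ι F → x = 1)
    (e : (P ⧸ (Cfsg.Geo.scalars ι F).subgroupOf P) ≃* T) : PR F (Fintype.card ι) r T := by
  obtain ⟨P', h1, ⟨e'⟩, h3⟩ := exists_fin P hP
  refine PR.of_scalars P' (e'.trans e) ?_
  have hb : (Cfsg.Geo.scalars (Fin (Fintype.card ι)) F).subgroupOf P' = ⊥ := by
    rw [Subgroup.eq_bot_iff_forall]
    intro x hx
    exact Subtype.ext (h3 hsc _ x.2 (Subgroup.mem_subgroupOf.1 hx))
  rw [hb, Subgroup.card_bot]
  exact Nat.coprime_one_left r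

/-- `PR` when the kernels of the perfect central extensions of `T` have order prime to `r` -/
theorem pr_of_noR {r : ℕ} {T : Type v} [Group T]
    (h : ∀ (P : Type u) [Group P], commutator P = ⊤ → ∀ π : P →* T, Function.Surjective π →
      π.ker ≤ Subgroup.center P → (Nat.card π.ker).Coprime r)
    (P : Subgroup (Matrix.GeneralLinearGroup ι F)) (hP : ⁅P, P⁆ = P)
    (e : (P ⧸ (Cfsg.Geo.scalars ι F).subgroupOf P) ≃* T) : PR F (Fintype.card ι) r T := by
  obtain ⟨P', h1, ⟨e'⟩, h3⟩ := exists_fin P hP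
  refine PR.of_scalars P' (e'.trans e) ?_
  have hker := ker_comp_mk ((Cfsg.Geo.scalars (Fin (Fintype.card ι)) F).subgroupOf P') (e'.trans e)
  have h1 := h P' (commutator_eq_top h1) ((e'.trans e).toMonoidHom.comp (QuotientGroup.mk' _))
    ((e'.trans e).surjective.comp (QuotientGroup.mk'_surjective _)) (by
      rw [hker]
      intro x hx
      rw [Subgroup.mem_center_iff]
      intro y
      exact (Subtype.ext (scalars_central (Subgroup.mem_subgroupOf.1 hx) y)).symm)
  rwa [hker] at h1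

/-- the condition of `pr_of_noR` for a cyclic Schur multiplier -/
theorem noR_cyclic {r : ℕ} {T : Type v} [Group T] {m : ℕ} (h : Cfsg.HasCyclicSchurMultiplier T m)
    (hm : m.Coprime r) (P : Type u) [Group P] (hP : commutator P = ⊤) (π : P →* T) (hπ : Function.Surjective π)
    (hc : π.ker ≤ Subgroup.center P) : (Nat.card π.ker).Coprime r := by
  refine Nat.Coprime.coprime_dvd_left (Cfsg.Agent.H264.CoverOver.card_ker_dvd h hP π hπ hc) ?_
  rwa [Nat.card_congr (Multiplicative.toAdd (α := ZMod m)), Nat.card_zmod]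

/-- over a field with two elements there are no scalars -/
theorem no_scalars_two [Fintype F] (hF : Fintype.card F = 2) (P : Subgroup (Matrix.GeneralLinearGroup ι F)) :
    ∀ x ∈ P, x ∈ Cfsg.Geo.scalars ι F → x = 1 := by
  intro x _ hx
  obtain ⟨c, hc⟩ := (Cfsg.Geo.mem_scalars_iff _).1 hx
  apply Units.ext
  rw [hc, Units.val_one]
  rcases isEmpty_or_nonempty ι with h | ⟨⟨i⟩⟩
  · exact Subsingleton.elim _ _
  · have h3 : (c : F) ^ (Fintype.card F - 1) = 1 := FiniteField.pow_card_sub_one_eq_one (c : F) c.ne_zero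
    rw [hF, pow_one] at h3
    rw [h3, one_smul]

end Cfsg.Agent.H414.EPV
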