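import Cfsg.Agent.S0815
import Cfsg.Agent.H43.W53.Ord

/-!
# S3499: orders of the automorphism groups of the unitary groups (helper414)

* `card_mulAut_psu_le` : `|Aut PSU_d(q)| ≤ q ^ (d ^ 2)`;
* `aut33`, ... : the exact orders in small cases.
-/

set_option autoImplicit false

universe u

namespace Cfsg.Agent.H414.EPV

open Cfsg Cfsg.Agent.H43.W53

variable {K : Type u} [Field K] [Fintype K] {q : ℕ}

theorem q_pow (hK : Fintype.card K = q ^ 2) : ∃ p f : ℕ, p.Prime ∧ CharP K p ∧ 1 ≤ f ∧ q = p ^ f := by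
  obtain ⟨p, hp⟩ := CharP.exists K
  obtain ⟨n, hpp, hn⟩ := FiniteField.card K p
  have h1 : q ∣ p ^ (n : ℕ) := by
    rw [← hn, hK]
    exact dvd_pow_self q two_ne_zero
  obtain ⟨f, -, hf⟩ := (Nat.dvd_prime_pow hpp).1 h1
  refine ⟨p, f, hpp, hp, ?_, hf⟩
  rcases Nat.eq_zero_or_pos f with h | h
  · exfalso
    rw [h, pow_zero] at hf
    rw [hf, one_pow] at hK
    have := Fintype.one_lt_card (α := K)
    omega
  · exact h

theorem two_le_q (hK : Fintype.card K = q ^ 2) : 2 ≤ q := by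
  obtain ⟨p, f, hp, -, hf, rfl⟩ := q_pow hK
  exact hp.two_le.trans (Nat.le_self_pow (by omega) p)

/-- the order of the automorphism group, without division -/
theorem card_mulAut_psu (hK : Fintype.card K = q ^ 2) {p f : ℕ} (hp : p.Prime) (hf : 1 ≤ f) (hq : q = p ^ f) {d : ℕ}
    (hd : 3 ≤ d) (h32 : ¬ (d = 3 ∧ q = 2)) :
    (q + 1) * Nat.card (MulAut (PSU d K q)) = 2 * f * (q ^ (d * (d - 1) / 2) * pr q d) := by
  have : Fact p.Prime := ⟨hp⟩
  rw [S0815.result p f hf hq hK d hd h32]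
  have h := S0280.result hK d (by omega)
  unfold pr
  rw [← h]
  ring

theorem card_mulAut_psu_le (hK : Fintype.card K = q ^ 2) {d : ℕ} (hd : 3 ≤ d) (h32 : ¬ (d = 3 ∧ q = 2)) :
    Nat.card (MulAut (PSU d K q)) ≤ q ^ (d ^ 2) := by
  obtain ⟨p, f, hp, -, hf, hq⟩ := q_pow hK
  have hq2 := two_le_q hK
  have h1 := card_mulAut_psu hK hp hf hq hd h32
  have h2 := pr_le hq2 (n := d) (by omega)
  have hf2 : 2 * f ≤ q := by
    have h3 : 2 * f ≤ 2 ^ f := by
      obtain ⟨g, rfl⟩ : ∃ g, f = g + 1 := ⟨f - 1, by omega⟩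
      have := Nat.lt_two_pow_self (n := g)
      rw [pow_succ]
      omega
    rw [hq]
    exact h3.trans (Nat.pow_le_pow_left hp.two_le f)
  have he : d * (d - 1) / 2 + d * (d + 1) / 2 = d ^ 2 := by
    have e1 : 2 ∣ d * (d - 1) := (Nat.even_mul_pred_self d).two_dvd
    have e2 : 2 ∣ d * (d + 1) := (Nat.even_mul_succ_self d).two_dvd
    obtain ⟨a, ha⟩ := e1
    obtain ⟨b, hb⟩ := e2
    rw [ha, hb, Nat.mul_div_cancel_left _ (by norm_num), Nat.mul_div_cancel_left _ (by norm_num)]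
    obtain ⟨c, rfl⟩ : ∃ c, d = c + 1 := ⟨d - 1, by omega⟩
    simp only [Nat.add_sub_cancel] at ha
    nlinarith
  have h3 : (q + 1) * Nat.card (MulAut (PSU d K q)) ≤ (q + 1) * q ^ (d ^ 2) := by
    rw [h1]
    calc 2 * f * (q ^ (d * (d - 1) / 2) * pr q d) ≤ q * (q ^ (d * (d - 1) / 2) * pr q d) :=
          Nat.mul_le_mul_right _ hf2
      _ = q ^ (d * (d - 1) / 2) * (pr q d * q) := by ring
      _ ≤ q ^ (d * (d - 1) / 2) * ((q + 1) * q ^ (d * (d + 1) / 2)) := Nat.mul_le_mul_left _ h2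
      _ = (q + 1) * q ^ (d ^ 2) := by rw [← he, pow_add]; ring
  exact Nat.le_of_mul_le_mul_left h3 (by omega)

section small

theorem aut33 (hK : Fintype.card K = 3 ^ 2) : Nat.card (MulAut (PSU 3 K 3)) = 12096 := by
  have h := card_mulAut_psu hK Nat.prime_three le_rfl (pow_one 3).symm (d := 3) (by norm_num) (by norm_num)
  have e : 2 * 1 * (3 ^ (3 * (3 - 1) / 2) * pr 3 3) = 4 * 12096 := by decide +kernel
  rw [e] at h
  omega

theorem aut34 (hK : Fintype.card K = 4 ^ 2) : Nat.card (MulAut (PSU 3 K 4)) = 249600 := by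
  have h := card_mulAut_psu hK Nat.prime_two (f := 2) (by norm_num) (by norm_num) (d := 3) (by norm_num) (by norm_num)
  have e : 2 * 2 * (4 ^ (3 * (3 - 1) / 2) * pr 4 3) = 5 * 249600 := by decide +kernel
  rw [e] at h
  omega

theorem aut35 (hK : Fintype.card K = 5 ^ 2) : Nat.card (MulAut (PSU 3 K 5)) = 756000 := by
  have h := card_mulAut_psu hK Nat.prime_five le_rfl (pow_one 5).symm (d := 3) (by norm_num) (by norm_num)
  have e : 2 * 1 * (5 ^ (3 * (3 - 1) / 2) * pr 5 3) = 6 * 756000 := by decide +kernel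
  rw [e] at h
  omega

theorem aut42 (hK : Fintype.card K = 2 ^ 2) : Nat.card (MulAut (PSU 4 K 2)) = 51840 := by
  have h := card_mulAut_psu hK Nat.prime_two le_rfl (pow_one 2).symm (d := 4) (by norm_num) (by norm_num)
  have e : 2 * 1 * (2 ^ (4 * (4 - 1) / 2) * pr 2 4) = 3 * 51840 := by decide +kernel
  rw [e] at h
  omega

theorem aut43 (hK : Fintype.card K = 3 ^ 2) : Nat.card (MulAut (PSU 4 K 3)) = 26127360 := by
  have h := card_mulAut_psu hK Nat.prime_three le_rfl (pow_one 3).symm (d := 4) (by norm_num) (by norm_num)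
  have e : 2 * 1 * (3 ^ (4 * (4 - 1) / 2) * pr 3 4) = 4 * 26127360 := by decide +kernel
  rw [e] at h
  omega

theorem aut52 (hK : Fintype.card K = 2 ^ 2) : Nat.card (MulAut (PSU 5 K 2)) = 27371520 := by
  have h := card_mulAut_psu hK Nat.prime_two le_rfl (pow_one 2).symm (d := 5) (by norm_num) (by norm_num)
  have e : 2 * 1 * (2 ^ (5 * (5 - 1) / 2) * pr 2 5) = 3 * 27371520 := by decide +kernel
  rw [e] at h
  omega

theorem aut62 (hK : Fintype.card K = 2 ^ 2) : Nat.card (MulAut (PSU 6 K 2)) = 55180984320 := by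
  have h := card_mulAut_psu hK Nat.prime_two le_rfl (pow_one 2).symm (d := 6) (by norm_num) (by norm_num)
  have e : 2 * 1 * (2 ^ (6 * (6 - 1) / 2) * pr 2 6) = 3 * 55180984320 := by decide +kernel
  rw [e] at h
  omega

theorem aut72 (hK : Fintype.card K = 2 ^ 2) : Nat.card (MulAut (PSU 7 K 2)) = 455574206545920 := by
  have h := card_mulAut_psu hK Nat.prime_two le_rfl (pow_one 2).symm (d := 7) (by norm_num) (by norm_num)
  have e : 2 * 1 * (2 ^ (7 * (7 - 1) / 2) * pr 2 7) = 3 * 455574206545920 := by decide +kernel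
  rw [e] at h
  omega

theorem aut82 (hK : Fintype.card K = 2 ^ 2) : Nat.card (MulAut (PSU 8 K 2)) = 14869942101658828800 := by
  have h := card_mulAut_psu hK Nat.prime_two le_rfl (pow_one 2).symm (d := 8) (by norm_num) (by norm_num)
  have e : 2 * 1 * (2 ^ (8 * (8 - 1) / 2) * pr 2 8) = 3 * 14869942101658828800 := by decide +kernel
  rw [e] at h
  omega

end small

end Cfsg.Agent.H414.EPV
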